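import Cfsg.Agent.LargeExtra.WideIrr.FPair

/-!
# `H = L_n(2).2` on `n ⊕ n*`, `n ≥ 4`: the vectors `u + f u` do not come from conjugates of `z` (helper754)

helper805's `FlipCount` (`n = 4`) with the width as a parameter.
-/

set_option autoImplicit false
set_option linter.style.haveILetI false

namespace Cfsg.Agent.LargeExtra.WideIrr.FCount

open Cfsg.Agent.Co2Type.Quad Cfsg.Agent.LargeExtra.Base Cfsg.Agent.LargeExtra.TwoCentral
open Cfsg.Agent.LargeExtra.SwapBasic (eq_of_add Keep Flip)
open Cfsg.Agent.LargeExtra.PGLKill (flip_mul flip_mul_keep keep_mul_flip keep_mul)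
open Cfsg.Agent.LargeExtra.FlipBasic Cfsg.Agent.LargeExtra.WideIrr.FPair
open Module

variable {G : Type*} [Group G] {Q : Subgroup G} {z : G}
variable {n : ℕ} {h : Large Q z} {U W : Submodule (ZMod 2) h.V}
variable [Finite G] {A : Subgroup G} {c : G} {u w : h.V} {f : h.V ≃ₗ[ZMod 2] h.V}

/-- the elements of `X` preserving `U` and `W` -/
def X0 {S : Swap n h U W} (L : Loc S A c u w f) : Subgroup (h.V ≃ₗ[ZMod 2] h.V) where
  carrier := {x | x ∈ L.p.X ∧ Keep h U W x}
  one_mem' := ⟨L.p.X.one_mem, fun _ hv => hv, fun _ hv => hv⟩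
  mul_mem' := fun ha hb => ⟨L.p.X.mul_mem ha.1 hb.1, keep_mul ha.2 hb.2⟩
  inv_mem' := by
    rintro x ⟨hx, hk⟩
    have h1 : x⁻¹ = x := by rw [inv_eq_iff_mul_eq_one]; exact L.p.X_sq hx
    rw [h1]; exact ⟨hx, hk⟩

theorem finX {S : Swap n h U W} (L : Loc S A c u w f) : Finite L.p.X := by
  apply Nat.finite_of_card_ne_zero
  have h1 := L.p.card_X
  have h2 : Nat.card L.p.lz.V = 2 ^ (2 * n) := cardV S
  rw [h2] at h1
  intro h3
  rw [h3] at h1
  have h4 : 0 < 2 ^ (2 * n) := by positivity
  omega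

theorem finX0 {S : Swap n h U W} (L : Loc S A c u w f) : Finite (X0 L) := by
  have := finX L
  exact Finite.of_injective (fun x : X0 L => (⟨x, x.2.1⟩ : L.p.X))
    (fun x y hxy => Subtype.ext (congrArg (fun t : L.p.X => (t : h.V ≃ₗ[ZMod 2] h.V)) hxy))

omit [Finite G] in
theorem finV (S : Swap n h U W) : Finite h.V := by
  apply Nat.finite_of_card_ne_zero
  rw [cardV S]; positivity

/-- `|X| ≤ 2 |X₀|` -/
theorem card_X_le {S : Swap n h U W} (L : Loc S A c u w f) : Nat.card L.p.X ≤ 2 * Nat.card (X0 L) := by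
  classical
  have := finX0 L
  by_cases hσ : ∃ σ ∈ L.p.X, Flip h U W σ
  · obtain ⟨σ, hσX, hσ⟩ := hσ
    let g : L.p.X → X0 L × Bool := fun x =>
      if hk : Keep h U W (x : h.V ≃ₗ[ZMod 2] h.V) then (⟨x, x.2, hk⟩, true)
      else (⟨σ * x, L.p.X.mul_mem hσX x.2, flip_mul hσ ((keep_or S L.p x.2).resolve_left hk)⟩, false)
    have hg : Function.Injective g := by
      intro x y hxy
      by_cases hx : Keep h U W (x : h.V ≃ₗ[ZMod 2] h.V) <;> by_cases hy : Keep h U W (y : h.V ≃ₗ[ZMod 2] h.V)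
      · simp only [g, dif_pos hx, dif_pos hy, Prod.mk.injEq, and_true] at hxy
        exact Subtype.ext (congrArg (fun t : X0 L => (t : h.V ≃ₗ[ZMod 2] h.V)) hxy)
      · simp only [g, dif_pos hx, dif_neg hy, Prod.mk.injEq, Bool.true_eq_false, and_false] at hxy
      · simp only [g, dif_neg hx, dif_pos hy, Prod.mk.injEq, Bool.false_eq_true, and_false] at hxy
      · simp only [g, dif_neg hx, dif_neg hy, Prod.mk.injEq, and_true] at hxy
        exact Subtype.ext (mul_left_cancel (congrArg (fun t : X0 L => (t : h.V ≃ₗ[ZMod 2] h.V)) hxy))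
    have h1 := Nat.card_le_card_of_injective g hg
    rw [Nat.card_prod, Nat.card_eq_fintype_card (α := Bool), Fintype.card_bool] at h1
    omega
  · push Not at hσ
    have h1 := Nat.card_le_card_of_injective (fun x : L.p.X =>
      (⟨x, x.2, (keep_or S L.p x.2).resolve_right (hσ x x.2)⟩ : X0 L))
      (fun x y hxy => Subtype.ext (congrArg (fun t : X0 L => (t : h.V ≃ₗ[ZMod 2] h.V)) hxy))
    have h2 : 0 < Nat.card (X0 L) := Nat.card_pos
    omega

/-- `X₀` contains an element different from `1` and `T(u, w)` -/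
theorem exists_X0 {S : Swap n h U W} (L : Loc S A c u w f) :
    ∃ x ∈ L.p.X, Keep h U W x ∧ x ≠ 1 ∧ ¬ IsT h u w x := by
  classical
  by_contra hcon
  push Not at hcon
  have h1 := card_X_le L
  have h2 : Nat.card (X0 L) ≤ 2 := by
    have hinj : Function.Injective (fun x : X0 L => decide ((x : h.V ≃ₗ[ZMod 2] h.V) = 1)) := by
      intro a b hab
      have hab' : decide ((a : h.V ≃ₗ[ZMod 2] h.V) = 1) = decide ((b : h.V ≃ₗ[ZMod 2] h.V) = 1) := hab
      by_cases ha : (a : h.V ≃ₗ[ZMod 2] h.V) = 1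
      · rw [decide_eq_true ha] at hab'
        have hb' := of_decide_eq_true hab'.symm
        exact Subtype.ext (ha.trans hb'.symm)
      · rw [decide_eq_false ha] at hab'
        have hb' := of_decide_eq_false hab'.symm
        exact Subtype.ext ((hcon a a.2.1 a.2.2 ha).ext (hcon b b.2.1 b.2.2 hb'))
    have := Nat.card_le_card_of_injective _ hinj
    rwa [Nat.card_eq_fintype_card (α := Bool), Fintype.card_bool] at this
  have h3 := L.p.card_X
  have h4 : Nat.card L.p.lz.V = 2 ^ (2 * n) := cardV S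
  have := finV S
  have h5 : Nat.card L.p.D * Nat.card L.p.D ≤ Nat.card L.p.lz.V := by
    have := S.lag.finQ
    have := Cfsg.Agent.LargeExtra.Perp.card_sq_le L.p.lz L.p.D (fun v hv w hw => L.p.b_D hv hw)
    simpa [pow_two] using this
  have h10 := pow_pos' S
  have e : 2 ^ (2 * n) = 2 ^ n * 2 ^ n := by rw [two_mul, pow_add]
  rw [h4, e] at h3 h5
  have h6 : Nat.card L.p.D ≤ 2 ^ n := by
    by_contra h9
    have h9' : 2 ^ n < Nat.card L.p.D := not_le.1 h9
    have := Nat.mul_lt_mul_of_lt_of_le h9' h9'.le (by omega)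
    omega
  have h7 : Nat.card L.p.X ≤ 4 := by omega
  have h8 := Nat.mul_le_mul h7 h6
  have h9 := Nat.mul_le_mul_right (2 ^ n) h10
  generalize 2 ^ n = N at *
  nlinarith

/-- `2 |X₀| ≤ |D|` -/
theorem card_X0_le {S : Swap n h U W} (L : Loc S A c u w f) {τ : h.V ≃ₗ[ZMod 2] h.V}
    (hT : IsT h u w τ) (hwD : w ∈ L.p.D) : Nat.card (X0 L) * 2 ≤ Nat.card L.p.D := by
  classical
  have := finV S
  have huD := L.u_mem_D hwD
  -- `τ` is trivial on `D`
  have hτD : ∀ d ∈ L.p.D, τ d = d := by
    intro d hd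
    have h1 : h.b w d = 0 := L.p.b_D hwD hd
    have h2 : h.b u d = 0 := L.p.b_D huD hd
    rw [hT d, h1, h2, zero_smul, zero_smul, add_zero, add_zero]
  obtain ⟨v₁, hv₁, hv₁1⟩ := S.lag.exists_one L.hwW L.hw0
  obtain ⟨y₁, hy₁, hy₁1⟩ := S.lag.symm.exists_one L.hu L.hu0
  obtain ⟨m, hm⟩ : ∃ m, m = v₁ + y₁ := ⟨_, rfl⟩
  have hΦ : ∀ x ∈ L.p.X, x m + m ∈ L.p.D := by
    intro x hx
    apply L.p.X_perp hx
    rw [L.hva, hm]
    show h.b (u + w) (v₁ + y₁) = 0
    rw [map_add, map_add, LinearMap.add_apply, LinearMap.add_apply, S.lag.bU L.hu hv₁, hv₁1, hy₁1,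
      S.lag.bW L.hwW hy₁]
    decide
  -- elements of `X₀` moving `m` by an element of `⟨u, w⟩`
  have hker : ∀ x ∈ L.p.X, Keep h U W x → (x m + m = 0 ∨ x m + m = u ∨ x m + m = w ∨ x m + m = u + w) →
      x = 1 ∨ IsT h u w x := by
    intro x hx hk hxm
    have hxv : x v₁ + v₁ ∈ U := U.add_mem (hk.1 _ hv₁) hv₁
    have hxy : x y₁ + y₁ ∈ W := W.add_mem (hk.2 _ hy₁) hy₁
    have e : x m + m = (x v₁ + v₁) + (x y₁ + y₁) := by rw [hm, map_add]; abel
    rw [e] at hxm
    have hcases : (x v₁ = v₁ ∨ x v₁ = v₁ + u) ∧ (x y₁ = y₁ ∨ x y₁ = y₁ + w) := by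
      have hback : ∀ a b : h.V, a + b = 0 → a = b := fun a b => eq_of_add h
      have hsolve : ∀ a b d : h.V, a + b = d → a = b + d := by
        intro a b d hab
        rw [← hab]
        calc a = a + (b + b) := by rw [h.add_self, add_zero]
          _ = b + (a + b) := by abel
      rcases hxm with h1 | h1 | h1 | h1
      · have h2 := S.lag.add_inj hxv U.zero_mem hxy W.zero_mem (by rw [h1, add_zero])
        exact ⟨Or.inl (hback _ _ h2.1), Or.inl (hback _ _ h2.2)⟩
      · have h2 := S.lag.add_inj hxv L.hu hxy W.zero_mem (by rw [h1, add_zero])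
        exact ⟨Or.inr (hsolve _ _ _ h2.1), Or.inl (hback _ _ h2.2)⟩
      · have h2 := S.lag.add_inj hxv U.zero_mem hxy L.hwW (by rw [h1, zero_add])
        exact ⟨Or.inl (hback _ _ h2.1), Or.inr (hsolve _ _ _ h2.2)⟩
      · have h2 := S.lag.add_inj hxv L.hu hxy L.hwW h1
        exact ⟨Or.inr (hsolve _ _ _ h2.1), Or.inr (hsolve _ _ _ h2.2)⟩
    have hxi := isoX L.p hx
    apply one_or_T S.lag L.hu L.hwW L.hw0 L.hb hxi hk
    · intro v hv hvw
      rcases L.act_U hx hk hv hvw with h1 | h1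
      · exact h1
      · exfalso
        have h2 := hxi v y₁
        have h3 : h.b v w = 0 := by rw [h.b_comm]; exact hvw
        rcases hcases.2 with h4 | h4 <;> rw [h1, h4] at h2 <;>
          simp only [map_add, LinearMap.add_apply, hy₁1, h3, L.hb, add_zero] at h2 <;>
          exact absurd (add_eq_left.1 h2) (by decide)
    · intro v hv hvu
      rcases L.act_W hx hk hv hvu with h1 | h1
      · exact h1
      · exfalso
        have h2 := hxi v v₁
        have h3 : h.b v u = 0 := by rw [h.b_comm]; exact hvu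
        have h5 : h.b w u = 0 := by rw [h.b_comm]; exact L.hb
        rcases hcases.1 with h4 | h4 <;> rw [h1, h4] at h2 <;>
          simp only [map_add, LinearMap.add_apply, hv₁1, h3, h5, add_zero] at h2 <;>
          exact absurd (add_eq_left.1 h2) (by decide)
  have huw0 : u + w ≠ 0 := by
    intro h0
    exact L.hu0 (S.lag.disj u L.hu (eq_of_add h h0 ▸ L.hwW))
  -- the injection
  let ε : Bool → h.V := fun b => if b then u else 0
  have hεD : ∀ b, ε b ∈ L.p.D := by
    intro b
    cases b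
    · exact L.p.D.zero_mem
    · exact huD
  let g : X0 L × Bool → L.p.D := fun a => ⟨(a.1 : h.V ≃ₗ[ZMod 2] h.V) m + m + ε a.2,
    L.p.D.add_mem (hΦ _ a.1.2.1) (hεD _)⟩
  have hg : Function.Injective g := by
    rintro ⟨⟨x, hx, hkx⟩, a⟩ ⟨⟨y, hy, hky⟩, b⟩ hab
    have h1 : x m + m + ε a = y m + m + ε b := congrArg Subtype.val hab
    obtain ⟨δ, hδ⟩ : ∃ δ, δ = y m + m := ⟨_, rfl⟩
    have hδD : δ ∈ L.p.D := hδ ▸ hΦ y hy
    have hym : y m = m + δ := by
      rw [hδ]
      calc y m = y m + (m + m) := by rw [h.add_self, add_zero]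
        _ = m + (y m + m) := by abel
    have hxm : x m + m = δ + (ε a + ε b) := by
      rw [hδ]
      calc x m + m = x m + m + ε a + ε a := by rw [add_assoc _ (ε a), h.add_self, add_zero]
        _ = y m + m + (ε a + ε b) := by rw [h1]; abel
    have hεε : ε a + ε b = 0 ∨ ε a + ε b = u := by
      cases a <;> cases b
      · left; show (0 : h.V) + 0 = 0; rw [add_zero]
      · right; show (0 : h.V) + u = u; rw [zero_add]
      · right; show u + (0 : h.V) = u; rw [add_zero]
      · left; show u + u = 0; exact h.add_self u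
    have hxδ : x δ = δ ∨ x δ = δ + (u + w) := by
      have := L.p.X_D hx hδD
      rwa [L.hva] at this
    have hxy : (x * y) m + m = (ε a + ε b) ∨ (x * y) m + m = (ε a + ε b) + (u + w) := by
      have e1 : (x * y) m = x m + x δ := by
        show x (y m) = _
        rw [hym, map_add]
      rcases hxδ with h2 | h2
      · left
        calc (x * y) m + m = (x m + m) + x δ := by rw [e1]; abel
          _ = (ε a + ε b) + (δ + δ) := by rw [hxm, h2]; abel
          _ = _ := by rw [h.add_self, add_zero]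
      · right
        calc (x * y) m + m = (x m + m) + x δ := by rw [e1]; abel
          _ = (ε a + ε b) + (u + w) + (δ + δ) := by rw [hxm, h2]; abel
          _ = _ := by rw [h.add_self, add_zero]
    have hmem : (x * y) m + m = 0 ∨ (x * y) m + m = u ∨ (x * y) m + m = w ∨ (x * y) m + m = u + w := by
      have e2 : u + (u + w) = w := by rw [← add_assoc, h.add_self, zero_add]
      rcases hxy with h2 | h2 <;> rcases hεε with h3 | h3 <;> rw [h3] at h2
      · exact Or.inl h2
      · exact Or.inr (Or.inl h2)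
      · rw [zero_add] at h2; exact Or.inr (Or.inr (Or.inr h2))
      · rw [e2] at h2; exact Or.inr (Or.inr (Or.inl h2))
    have hyy : y * y = 1 := L.p.X_sq hy
    rcases hker _ (L.p.X.mul_mem hx hy) (keep_mul hkx hky) hmem with h4 | h4
    · have hxy' : x = y := by
        calc x = x * (y * y) := by rw [hyy, mul_one]
          _ = y := by rw [← mul_assoc, h4, one_mul]
      subst hxy'
      have h5 : ε a = ε b := add_left_cancel h1
      have hab' : a = b := by
        cases a <;> cases b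
        · rfl
        · exact absurd h5.symm L.hu0
        · exact absurd h5 L.hu0
        · rfl
      rw [hab']
    · exfalso
      have h5 : x * y = τ := h4.ext hT
      have h6 : x = τ * y := by
        calc x = x * (y * y) := by rw [hyy, mul_one]
          _ = τ * y := by rw [← mul_assoc, h5]
      have h7 : x m = m + (u + w) + δ := by
        rw [h6]
        show τ (y m) = _
        rw [hym, map_add, hτD δ hδD, hT m, hm, map_add, map_add, hv₁1, S.lag.bW L.hwW hy₁, S.lag.bU L.hu hv₁,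
          hy₁1, add_zero, zero_add, one_smul, one_smul]
        abel
      have h8 : (u + w) + δ = δ + (ε a + ε b) := by
        rw [← hxm, h7]
        calc (u + w) + δ = (u + w) + δ + (m + m) := by rw [h.add_self, add_zero]
          _ = m + (u + w) + δ + m := by abel
      have h9 : u + w = ε a + ε b := by
        rw [add_comm δ] at h8
        exact add_right_cancel h8
      rcases hεε with h10 | h10
      · exact huw0 (h9.trans h10)
      · have := h9.trans h10
        exact L.hw0 (add_eq_left.1 this)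
  have hfin : Finite L.p.D := inferInstance
  have h1 := Nat.card_le_card_of_injective g hg
  rw [Nat.card_prod, Nat.card_eq_fintype_card (α := Bool), Fintype.card_bool] at h1
  exact h1

/-- `|D| ≤ |X|` if `X` contains an element `τ ≠ 1` trivial on `D` -/
theorem card_D_le {S : Swap n h U W} (L : Loc S A c u w f) {τ : h.V ≃ₗ[ZMod 2] h.V} (hτ : τ ∈ L.p.X)
    (hτ1 : τ ≠ 1) (hτD : ∀ d ∈ L.p.D, τ d = d) : Nat.card L.p.D ≤ Nat.card L.p.X := by
  classical
  have := finV S
  have hfV : Finite L.p.lz.V := finV S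
  have := finX L
  have : Module.Finite (ZMod 2) L.p.D := Module.Finite.of_finite
  let va : L.p.D := ⟨L.p.va, L.p.va_mem_D⟩
  have hva0 : va ≠ 0 := fun h0 => L.p.va_ne (congrArg Subtype.val h0)
  -- functionals on `D` vanishing on `va`
  let ev : Module.Dual (ZMod 2) L.p.D →ₗ[ZMod 2] ZMod 2 := Module.Dual.eval (ZMod 2) L.p.D va
  have hev : ∀ ψ, ev ψ = ψ va := fun ψ => rfl
  have hex : ∀ ψ : LinearMap.ker ev, ∃ x ∈ L.p.X, ∀ v : L.p.D, x v = (v : h.V) + (ψ : Module.Dual (ZMod 2) L.p.D) v • L.p.va := by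
    intro ψ
    obtain ⟨φ, hφ⟩ := LinearMap.exists_extend (ψ : Module.Dual (ZMod 2) L.p.D)
    have hφ' : ∀ v : L.p.D, φ v = (ψ : Module.Dual (ZMod 2) L.p.D) v := by
      intro v; rw [← hφ]; rfl
    obtain ⟨x, hx, hxv⟩ := L.p.exists_X φ (by
      have h1 := hφ' va
      have h2 : ev (ψ : Module.Dual (ZMod 2) L.p.D) = 0 := ψ.2
      rw [hev] at h2
      rw [h2] at h1
      exact h1)
    exact ⟨x, hx, fun v => by rw [← hφ' v]; exact hxv v v.2⟩
  choose F hFX hF using hex
  let g : LinearMap.ker ev × Bool → L.p.X := fun a =>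
    if a.2 then ⟨F a.1, hFX a.1⟩ else ⟨F a.1 * τ, L.p.X.mul_mem (hFX a.1) hτ⟩
  have hgD : ∀ a, ∀ v : L.p.D, ((g a : L.p.X) : h.V ≃ₗ[ZMod 2] h.V) v =
      (v : h.V) + ((a.1 : LinearMap.ker ev) : Module.Dual (ZMod 2) L.p.D) v • L.p.va := by
    rintro ⟨ψ, b⟩ v
    cases b
    · show (F ψ * τ) (v : h.V) = _
      have : (F ψ * τ) (v : h.V) = F ψ (τ v) := rfl
      rw [this, hτD v v.2]
      exact hF ψ v
    · exact hF ψ v
  have hg : Function.Injective g := by
    rintro ⟨ψ, a⟩ ⟨χ, b⟩ hab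
    have h1 : ψ = χ := by
      apply Subtype.ext
      ext v
      have h2 := hgD (ψ, a) v
      have h3 := hgD (χ, b) v
      rw [hab, h3] at h2
      have h4 := add_left_cancel h2
      have h5 : ((χ : Module.Dual (ZMod 2) L.p.D) v - (ψ : Module.Dual (ZMod 2) L.p.D) v) • L.p.va = 0 := by
        rw [sub_smul, sub_eq_zero]; exact h4
      rcases smul_eq_zero.1 h5 with h6 | h6
      · exact (sub_eq_zero.1 h6).symm
      · exact absurd h6 L.p.va_ne
    subst h1
    cases a <;> cases b
    · rfl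
    · exfalso
      have h2 : F ψ * τ = F ψ := congrArg (fun t : L.p.X => (t : h.V ≃ₗ[ZMod 2] h.V)) hab
      exact hτ1 (mul_eq_left.1 h2)
    · exfalso
      have h2 : F ψ = F ψ * τ := congrArg (fun t : L.p.X => (t : h.V ≃ₗ[ZMod 2] h.V)) hab
      exact hτ1 (mul_eq_left.1 h2.symm)
    · rfl
  have h1 := Nat.card_le_card_of_injective g hg
  rw [Nat.card_prod, Nat.card_eq_fintype_card (α := Bool), Fintype.card_bool] at h1
  -- `|ker ev| * 2 = |D|`
  have h2 := LinearMap.finrank_range_add_finrank_ker ev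
  have h3 : LinearMap.range ev = ⊤ := by
    rw [LinearMap.range_eq_top]
    apply LinearMap.surjective
    intro h0
    apply hva0
    rw [← Module.forall_dual_apply_eq_zero_iff (ZMod 2)]
    intro ψ
    rw [← hev, h0]; rfl
  rw [h3, finrank_top, finrank_self, Subspace.dual_finrank_eq] at h2
  have h4 : Nat.card L.p.D = Nat.card (LinearMap.ker ev) * 2 := by
    rw [Module.natCard_eq_pow_finrank (K := ZMod 2) (V := L.p.D),
      Module.natCard_eq_pow_finrank (K := ZMod 2) (V := LinearMap.ker ev), Nat.card_zmod, ← h2, pow_add]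
    ring
  omega

theorem loc_false {S : Swap n h U W} (L : Loc S A c u w f) : False := by
  obtain ⟨x, hx, hk, hx1, hxT⟩ := exists_X0 L
  obtain ⟨⟨τ, hτ, hT⟩, hwD⟩ := L.tau_mem hx hk hx1 hxT
  have huD := L.u_mem_D hwD
  have hτD : ∀ d ∈ L.p.D, τ d = d := by
    intro d hd
    have h1 : h.b w d = 0 := L.p.b_D hwD hd
    have h2 : h.b u d = 0 := L.p.b_D huD hd
    rw [hT d, h1, h2, zero_smul, zero_smul, add_zero, add_zero]
  have hτ1 : τ ≠ 1 := by
    intro h0
    obtain ⟨v, hv, hv1⟩ := S.lag.exists_one L.hwW L.hw0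
    have h1 := hT v
    rw [h0, hv1, S.lag.bU L.hu hv, one_smul, zero_smul, add_zero] at h1
    have h2 : v = v + u := h1
    exact L.hu0 (add_eq_left.1 h2.symm)
  have h1 := card_X_le L
  have h2 := card_X0_le L hT hwD
  have h3 := card_D_le L hτ hτ1 hτD
  have h4 : Nat.card L.p.X = Nat.card L.p.D := by omega
  have h5 := L.p.card_X
  have h6 : Nat.card L.p.lz.V = 2 ^ (2 * n) := cardV S
  have hfV : Finite L.p.lz.V := finV S
  have : Module.Finite (ZMod 2) L.p.D := Module.Finite.of_finite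
  rw [h6, h4, Module.natCard_eq_pow_finrank (K := ZMod 2) (V := L.p.D), Nat.card_zmod, ← pow_add,
    ← pow_succ] at h5
  have h7 := Nat.pow_right_injective (le_refl 2) h5
  omega

/-- vectors `u + f u` with `b(u, f u) = 0`, `u ≠ 0`, do not come from conjugates of `z` -/
theorem not_conj_graph (S : Swap n h U W) {s : Subgroup.centralizer ({z} : Set G)}
    (I : Inv h U W (h.act s)) {c : Q} {u : h.V} (hu : u ∈ U) (hu0 : u ≠ 0) (hb : h.b u (h.act s u) = 0)
    (hc : h.pr c = u + h.act s u) (g : G) : g * z * g⁻¹ ≠ c := by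
  intro hg
  have hcz : (c : G) ≠ z := by
    intro h1
    have h2 := h.pr_eq_zero.2 (Or.inr h1)
    rw [hc] at h2
    have h3 := eq_of_add h h2
    exact hu0 (I.lag.disj u hu (h3 ▸ I.flip.1 u hu))
  have p := Cfsg.Agent.LargeExtra.Base.pair_of_conj h (g := g) (by rw [hg]; exact c.2) (by rw [hg]; exact hcz)
  rw [hg] at p
  exact loc_false (S := S) (u := u) (w := h.act s u) (f := h.act s)
    { I := I, hu := hu, hu0 := hu0, hw := rfl, hb := hb, p := p, hf := ⟨s, rfl⟩, hva := hc }

end Cfsg.Agent.LargeExtra.WideIrr.FCount
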