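import Cfsg.Agent.LargeExtra.WideIrr.FCount

/-!
# `H = L_n(2).2` on `n ⊕ n*`: involutions swapping `U`, `W` are not conjugate to `z` (helper754)

helper805's `FlipOuter` (`n = 4`) with the width as a parameter.
-/

set_option autoImplicit false
set_option linter.style.haveILetI false

namespace Cfsg.Agent.LargeExtra.WideIrr.FOuter

open Cfsg.Agent.Co2Type.Quad Cfsg.Agent.LargeExtra.Base Cfsg.Agent.LargeExtra.TwoCentral
open Cfsg.Agent.LargeExtra.Local Cfsg.Agent.LargeExtra.Dickson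
open Cfsg.Agent.LargeExtra.CentCard (notMem_of_conj comm_inter comm_mem_inter card_map_conj)
open Cfsg.Agent.LargeExtra.SwapBasic (eq_of_add Keep Flip)
open Cfsg.Agent.LargeExtra.PGLKill (flip_mul flip_mul_keep keep_mul_flip keep_mul comm_graph)
open Cfsg.Agent.LargeExtra.FlipBasic Cfsg.Agent.LargeExtra.WideIrr.FPair Cfsg.Agent.LargeExtra.WideIrr.FCount
open Module

variable {G : Type*} [Group G] {Q : Subgroup G} {z : G}

variable {n : ℕ} {h : Large Q z} {U W : Submodule (ZMod 2) h.V}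

theorem inv_of_flip (S : Swap n h U W) {s : Subgroup.centralizer ({z} : Set G)} (hf : Flip h U W (h.act s))
    (hs : (s : G) * s = 1 ∨ (s : G) * s = z) : Inv h U W (h.act s) where
  lag := S.lag
  iso := h.b_act s
  flip := hf
  inv v := by
    have h1 : h.act (s * s) = 1 := by
      apply h.act_mem
      show (s : G) * s ∈ Q
      rcases hs with h2 | h2 <;> rw [h2]
      · exact Q.one_mem
      · exact h.z_mem
    rw [map_mul] at h1
    exact congrArg (fun t : h.V ≃ₗ[ZMod 2] h.V => t v) h1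

/-- elements of `Q` commuting with `s` -/
theorem graph_of_comm {s : Subgroup.centralizer ({z} : Set G)} (I : Inv h U W (h.act s))
    (hs : (s : G) * s = 1 ∨ (s : G) * s = z) {r : G} (hr : r ∈ Q) (hrs : r * s = s * r) :
    ∃ u ∈ U, h.b u (h.act s u) = 0 ∧ h.pr ⟨r, hr⟩ = u + h.act s u := by
  have h1 : h.act s (h.pr ⟨r, hr⟩) = h.pr ⟨r, hr⟩ := by
    apply Pair.act_pr_coe
    show (s : G) * r * (s : G)⁻¹ = r
    rw [← hrs]; group
  obtain ⟨u, hu, hru⟩ := I.fixed_iff.1 h1
  refine ⟨u, hu, ?_, hru⟩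
  by_contra h2
  obtain ⟨x, rfl⟩ := h.pr_surjective u
  have h3 := (comm_graph hs x ⟨r, hr⟩ hru).2 (zmod_two_ne h2)
  have h4 : (s : G) * r = r * z * s := h3
  have hsz : (s : G) * z = z * s := Subgroup.mem_centralizer_singleton_iff.1 s.2
  rw [← hrs, mul_assoc r z, ← hsz] at h4
  have h5 := mul_left_cancel h4
  exact h.z_ne (mul_eq_left.1 h5.symm)

/-- every `u + f u` with `b(u, f u) = 0` lifts to an element of `C_Q(s)` -/
theorem comm_of_graph {s : Subgroup.centralizer ({z} : Set G)} 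
    (hs : (s : G) * s = 1 ∨ (s : G) * s = z) {u : h.V} (hb : h.b u (h.act s u) = 0) {r : Q}
    (hr : h.pr r = u + h.act s u) : (r : G) * s = s * r := by
  obtain ⟨x, rfl⟩ := h.pr_surjective u
  exact ((comm_graph hs x r hr).1 hb).symm

/-- The situation of an involution `t = z^g` swapping `U` and `W`. -/
structure Out (S : Swap n h U W) (A : Subgroup G) (t : Subgroup.centralizer ({z} : Set G)) : Prop where
  tt : (t : G) * t = 1
  I : Inv h U W (h.act t)
  la : Large A (t : G)
  conj : ∃ g : G, g * z * g⁻¹ = t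
  zA : z ∉ A
  tQ : (t : G) ∉ Q

section out

variable {A : Subgroup G} {t : Subgroup.centralizer ({z} : Set G)}

theorem Out.hs {S : Swap n h U W} (O : Out S A t) : (t : G) * t = 1 ∨ (t : G) * t = z := Or.inl O.tt

variable [Finite G]

/-- `t d` is not conjugate to `t` for `1 ≠ d ∈ Q ∩ A` -/
theorem Out.no_conj {S : Swap n h U W} (O : Out S A t) {d : G} (hdQ : d ∈ Q) (hdA : d ∈ A) (hd1 : d ≠ 1) (y : G) :
    y * t * y⁻¹ ≠ t * d := by
  intro hy
  have hdt : d * t = t * d := O.la.comm_z d hdA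
  obtain ⟨u, hu, hb, hdu⟩ := graph_of_comm O.I O.hs hdQ hdt
  have hdz : d ≠ z := fun h1 => O.zA (h1 ▸ hdA)
  have hu0 : u ≠ 0 := by
    intro h1
    rw [h1, map_zero, add_zero] at hdu
    rcases h.pr_eq_zero.1 hdu with h2 | h2
    · exact hd1 h2
    · exact hdz h2
  obtain ⟨g, hg⟩ := O.conj
  obtain ⟨w, hwA, hwd⟩ := exists_not_comm O.la hdA hd1 (fun h1 => O.tQ (h1 ▸ hdQ))
  have hwt : w * t = t * w := O.la.comm_z w hwA
  have h1 : w * d * w⁻¹ = t * d := by
    rw [mul_inv_eq_iff_eq_mul, hwd, mul_assoc d, hwt, ← mul_assoc, hdt]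
  apply not_conj_graph S O.I (c := ⟨d, hdQ⟩) hu hu0 hb hdu (w⁻¹ * y * g)
  show w⁻¹ * y * g * z * (w⁻¹ * y * g)⁻¹ = d
  calc w⁻¹ * y * g * z * (w⁻¹ * y * g)⁻¹ = w⁻¹ * (y * (g * z * g⁻¹) * y⁻¹) * w := by group
    _ = w⁻¹ * (w * d * w⁻¹) * w := by rw [hg, hy, h1]
    _ = d := by group

/-- for `1 ≠ d ∈ Q ∩ A` over `u + f u`: `t^x = t d z` -/
theorem Out.conj_eq {S : Swap n h U W} (O : Out S A t) {d x : Q} (hdA : (d : G) ∈ A) (hd1 : (d : G) ≠ 1)
    (hdu : h.pr d = h.pr x + h.act t (h.pr x)) : (x : G) * t * (x : G)⁻¹ = t * (d * z) := by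
  obtain ⟨e', he'⟩ : ∃ e' : Q, e' = h.conjQ t⁻¹ x * x⁻¹ := ⟨_, rfl⟩
  have he'c : (e' : G) = (t : G)⁻¹ * x * t * (x : G)⁻¹ := by
    rw [he', Subgroup.coe_mul, h.conjQ_coe, Subgroup.coe_inv, Subgroup.coe_inv]; group
  have hpre' : h.pr e' = h.pr d := by
    rw [he', h.pr_mul, ← h.act_pr, h.pr_inv, h.neg_eq, hdu, map_inv, O.I.finv, add_comm]
  have hx1 : (x : G) * t * (x : G)⁻¹ = t * e' := by rw [he'c]; group
  rcases h.pr_eq_pr.1 hpre' with h1 | h1
  · exfalso
    rw [h1] at hx1
    exact O.no_conj d.2 hdA hd1 _ hx1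
  · rw [hx1, h1]

/-- `{u ∈ U : u + f u ∈ (Q ∩ A)/⟨z⟩}` -/
def DU (_ : Swap n h U W) (A : Subgroup G) (t : Subgroup.centralizer ({z} : Set G)) : Set h.V :=
  {u | u ∈ U ∧ ∃ d : Q, (d : G) ∈ A ∧ h.pr d = u + h.act t u}

omit [Finite G] in
theorem Out.DU_add {S : Swap n h U W} {u v : h.V} (hu : u ∈ DU S A t) (hv : v ∈ DU S A t) :
    u + v ∈ DU S A t := by
  obtain ⟨hu, d, hd, hdu⟩ := hu
  obtain ⟨hv, e, he, hev⟩ := hv
  refine ⟨U.add_mem hu hv, d * e, A.mul_mem hd he, ?_⟩
  rw [h.pr_mul, hdu, hev, map_add]; abel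

omit [Finite G] in
theorem Out.DU_b {S : Swap n h U W} (O : Out S A t) {u : h.V} (hu : u ∈ DU S A t) : h.b u (h.act t u) = 0 := by
  obtain ⟨hu, d, hd, hdu⟩ := hu
  obtain ⟨u', hu', hb, hdu'⟩ := graph_of_comm O.I O.hs d.2 (O.la.comm_z d hd)
  have : u = u' := O.I.graph_inj hu hu' (hdu.symm.trans hdu')
  rw [this]; exact hb

omit [Finite G] in
theorem Out.DU_ne {S : Swap n h U W} (O : Out S A t) {u : h.V} (hu : u ∈ U) (hu0 : u ≠ 0) {d : Q}
    (hd : h.pr d = u + h.act t u) : (d : G) ≠ 1 := by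
  intro h0
  have h1 : h.pr d = 0 := h.pr_eq_zero.2 (Or.inl h0)
  rw [hd] at h1
  have h2 := eq_of_add h h1
  exact hu0 (O.I.lag.disj u hu (h2 ▸ O.I.flip.1 u hu))

/-- distinct nonzero elements of `DU` are not perpendicular -/
theorem Out.DU_pair {S : Swap n h U W} (O : Out S A t) {u v : h.V} (hu : u ∈ DU S A t) (hv : v ∈ DU S A t)
    (hu0 : u ≠ 0) (hv0 : v ≠ 0) (huv : u ≠ v) : h.b u (h.act t v) = 1 := by
  obtain ⟨huU, d, hd, hdu⟩ := hu
  obtain ⟨hvU, e, he, hev⟩ := hv
  by_contra hcon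
  have hb : h.b u (h.act t v) = 0 := by
    rcases zmod_two (h.b u (h.act t v)) with h1 | h1
    · exact h1
    · exact absurd h1 hcon
  obtain ⟨x, hx⟩ := h.pr_surjective u
  obtain ⟨y, hy⟩ := h.pr_surjective v
  have h1 := O.conj_eq hd (O.DU_ne huU hu0 hdu) (x := x) (by rw [hx]; exact hdu)
  have h2 := O.conj_eq he (O.DU_ne hvU hv0 hev) (x := y) (by rw [hy]; exact hev)
  have hde : h.pr (d * e) = h.pr (x * y) + h.act t (h.pr (x * y)) := by
    rw [h.pr_mul, h.pr_mul, hdu, hev, hx, hy, map_add]; abel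
  have huv0 : u + v ≠ 0 := fun h0 => huv (eq_of_add h h0)
  have h3 := O.conj_eq (d := d * e) (x := x * y) (A.mul_mem hd he)
    (O.DU_ne (U.add_mem huU hvU) huv0 (by rw [hde, h.pr_mul, hx, hy])) hde
  -- `x` commutes with `e`
  have h4 : (x : G) * e = e * x := by
    rw [← h.b_pr, hx, hev, map_add, S.lag.bU huU hvU, hb, add_zero]
  have hxz := h.comm_z x x.2
  have hyz := h.comm_z y y.2
  have hez := h.comm_z e e.2
  have hdz := h.comm_z d d.2
  have h5 : ((x * y : Q) : G) * t * ((x * y : Q) : G)⁻¹ = t * (d * e) := by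
    calc ((x * y : Q) : G) * t * ((x * y : Q) : G)⁻¹ = x * (y * t * (y : G)⁻¹) * (x : G)⁻¹ := by
          rw [Subgroup.coe_mul]; group
      _ = (x * t * (x : G)⁻¹) * (x * (e * z) * (x : G)⁻¹) := by rw [h2]; group
      _ = t * (d * z) * (e * z) := by
          rw [h1]
          congr 1
          rw [mul_inv_eq_iff_eq_mul, ← mul_assoc, h4, mul_assoc, hxz, ← mul_assoc]
      _ = t * (d * (z * (e * z))) := by group
      _ = t * (d * e) := by rw [hez, ← mul_assoc z, h.z_sq, one_mul]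
  rw [h5] at h3
  have h6 : (d : G) * e = d * e * z := mul_left_cancel h3
  exact h.z_ne (mul_eq_left.1 h6.symm)

/-- if `b(v, f v) = 1` for some `v ∈ U` then `DU = 0` -/
theorem Out.DU_zero {S : Swap n h U W} (O : Out S A t) {v : h.V} (hv : v ∈ U) (hv1 : h.b v (h.act t v) = 1)
    {u : h.V} (hu : u ∈ DU S A t) : u = 0 := by
  by_contra hu0
  obtain ⟨huU, d, hd, hdu⟩ := hu
  have hd1 := O.DU_ne huU hu0 hdu
  obtain ⟨x, hx⟩ := h.pr_surjective u
  have h1 := O.conj_eq hd hd1 (x := x) (by rw [hx]; exact hdu)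
  obtain ⟨x', hx'⟩ := h.pr_surjective v
  obtain ⟨r, hr⟩ := h.pr_surjective (v + h.act t v)
  have h2 := (comm_graph O.hs x' r (by rw [hr, hx'])).2 (by rw [hx']; exact hv1)
  have h3 : (r : G) * d = d * r := by
    rw [← h.b_pr, hr, hdu]
    exact O.I.b_graph hv huU
  have hrz := h.comm_z r r.2
  have htz : (t : G) * z = z * t := Subgroup.mem_centralizer_singleton_iff.1 t.2
  apply O.no_conj d.2 hd hd1 ((r : G)⁻¹ * x)
  calc ((r : G)⁻¹ * x) * t * ((r : G)⁻¹ * x)⁻¹ = (r : G)⁻¹ * (x * t * (x : G)⁻¹) * r := by group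
    _ = (r : G)⁻¹ * (t * (d * (z * r))) := by rw [h1]; group
    _ = (r : G)⁻¹ * (t * ((d * r) * z)) := by rw [← hrz]; group
    _ = (r : G)⁻¹ * (t * r) * (d * z) := by rw [← h3]; group
    _ = z * t * (d * z) := by rw [h2]; group
    _ = t * (z * d) * z := by rw [← htz]; group
    _ = t * (d * z) * z := by rw [h.comm_z d d.2]
    _ = t * d * (z * z) := by group
    _ = t * d := by rw [h.z_sq, mul_one]

/-- elements of `C_A(z)` preserving `U`: action on `V` -/
structure Good (S : Swap n h U W) (A : Subgroup G) (t : Subgroup.centralizer ({z} : Set G))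
    (y : h.V ≃ₗ[ZMod 2] h.V) : Prop where
  iso : ∀ v w, h.b (y v) (y w) = h.b v w
  keep : Keep h U W y
  comm : ∀ v, y (h.act t v) = h.act t (y v)
  move : ∀ u ∈ U, h.b u (h.act t u) = 0 → u + y u ∈ DU S A t
  fix : ∀ u ∈ DU S A t, y u = u
  surj : ∀ u ∈ U, ∃ u' ∈ U, y u' = u

omit [Finite G] in
theorem Out.good {S : Swap n h U W} (O : Out S A t) {x : Subgroup.centralizer ({z} : Set G)} (hxA : (x : G) ∈ A)
    (hk : Keep h U W (h.act x)) (hk' : Keep h U W (h.act x⁻¹)) : Good S A t (h.act x) where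
  iso := h.b_act x
  keep := hk
  comm v := by
    have : x * t = t * x := Subtype.ext (O.la.comm_z x hxA)
    have h1 := congrArg (fun t => h.act t v) this
    simp only [map_mul] at h1
    exact h1
  move u hu hb := by
    obtain ⟨r, hr⟩ := h.pr_surjective (u + h.act t u)
    have hrt := comm_of_graph O.hs hb hr
    have hxz : (x : G) * z = z * x := Subgroup.mem_centralizer_singleton_iff.1 x.2
    obtain ⟨h1, h2⟩ := comm_mem_inter h O.la r.2 hrt hxA hxz
    refine ⟨U.add_mem hu (hk.1 u hu), ⟨_, h1⟩, h2, ?_⟩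
    have h3 : (⟨(r : G) * x * (r : G)⁻¹ * (x : G)⁻¹, h1⟩ : Q) = r * (h.conjQ x r)⁻¹ := by
      apply Subtype.ext
      rw [Subgroup.coe_mul, Subgroup.coe_inv, h.conjQ_coe]; group
    have hcomm : h.act t (h.act x u) = h.act x (h.act t u) := by
      have : x * t = t * x := Subtype.ext (O.la.comm_z x hxA)
      have h1 := congrArg (fun t => h.act t u) this
      simp only [map_mul] at h1
      exact h1.symm
    rw [h3, h.pr_mul, h.pr_inv, h.neg_eq, ← h.act_pr, hr, map_add, map_add, hcomm]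
    abel
  fix := by
    rintro u ⟨hu, d, hd, hdu⟩
    have hxz : (x : G) * z = z * x := Subgroup.mem_centralizer_singleton_iff.1 x.2
    have h1 : (x : G) * d = d * x := comm_inter O.la h O.tQ hd d.2 hxA hxz
    have h2 : h.act x (h.pr d) = h.pr d := by
      apply Pair.act_pr_coe
      rw [h1]; group
    rw [hdu, map_add] at h2
    exact (S.lag.add_inj (hk.1 u hu) hu (hk.2 _ (O.I.flip.1 u hu)) (O.I.flip.1 u hu) h2).1
  surj u hu := by
    refine ⟨h.act x⁻¹ u, hk'.1 u hu, ?_⟩
    have : (h.act x * h.act x⁻¹) u = u := by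
      rw [← map_mul, mul_inv_cancel, map_one]; rfl
    exact this

omit [Finite G] in
theorem Good.ext {S : Swap n h U W} {y y' : h.V ≃ₗ[ZMod 2] h.V} (hy : Good S A t y) (hy' : Good S A t y')
    (H : ∀ u ∈ U, y u = y' u) : y = y' :=
  S.lag.keep_ext hy.iso hy'.iso hy.keep hy'.keep hy.surj H

/-- two nontrivial good elements are equal if `DU ⊆ {0, a}` -/
theorem Out.good_unique {S : Swap n h U W} (O : Out S A t) {a : h.V} (ha : a ∈ DU S A t)
    (hDU : ∀ u ∈ DU S A t, u = 0 ∨ u = a)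
    {y y' : h.V ≃ₗ[ZMod 2] h.V} (hy : Good S A t y) (hy' : Good S A t y') (h1 : y ≠ 1) (h1' : y' ≠ 1) :
    y = y' := by
  have haU := ha.1
  have hshift : ∀ {y : h.V ≃ₗ[ZMod 2] h.V}, Good S A t y → ∀ u v, y v = v →
      h.b (y u) (h.act t v) = h.b u (h.act t v) := by
    intro y hy u v hv
    have : h.act t v = y (h.act t v) := by rw [hy.comm, hv]
    conv_lhs => rw [this]
    exact hy.iso _ _
  by_cases halt : ∃ v ∈ U, h.b v (h.act t v) = 1
  · -- non-alternating case: `DU = 0`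
    obtain ⟨v₁, hv₁, hv₁1⟩ := halt
    have hfix : ∀ {y : h.V ≃ₗ[ZMod 2] h.V}, Good S A t y → ∀ u ∈ U, h.b u (h.act t u) = 0 → y u = u := by
      intro y hy u hu hb
      exact (eq_of_add h (O.DU_zero hv₁ hv₁1 (hy.move u hu hb))).symm
    have hperp : ∀ {y : h.V ≃ₗ[ZMod 2] h.V}, Good S A t y → ∀ u ∈ U, h.b u (h.act t u) = 0 →
        h.b (y v₁ + v₁) (h.act t u) = 0 := by
      intro y hy u hu hb
      rw [map_add, LinearMap.add_apply, hshift hy v₁ u (hfix hy u hu hb)]
      rcases zmod_two (h.b v₁ (h.act t u)) with h2 | h2 <;> rw [h2] <;> decide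
    have hone : ∀ {y : h.V ≃ₗ[ZMod 2] h.V}, Good S A t y → y ≠ 1 → h.b (y v₁ + v₁) (h.act t v₁) = 1 := by
      intro y hy hy1
      by_contra hcon
      have h0 : h.b (y v₁ + v₁) (h.act t v₁) = 0 := by
        rcases zmod_two (h.b (y v₁ + v₁) (h.act t v₁)) with h2 | h2
        · exact h2
        · exact absurd h2 hcon
      apply hy1
      have hz : y v₁ + v₁ = 0 := by
        apply O.I.beta_nondeg (U.add_mem (hy.keep.1 _ hv₁) hv₁)
        intro v hv
        rcases zmod_two (h.b v (h.act t v)) with h2 | h2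
        · exact hperp hy v hv h2
        · have h3 := hperp hy (v + v₁) (U.add_mem hv hv₁) (by rw [O.I.beta_add, h2, hv₁1]; decide)
          rw [map_add (h.act t), map_add (h.b (y v₁ + v₁)), h0, add_zero] at h3
          exact h3
      apply S.lag.eq_one hy.iso hy.keep
      intro v hv
      rcases zmod_two (h.b v (h.act t v)) with h2 | h2
      · exact hfix hy v hv h2
      · have h3 := hfix hy (v + v₁) (U.add_mem hv hv₁) (by rw [O.I.beta_add, h2, hv₁1]; decide)
        rw [map_add, eq_of_add h hz] at h3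
        exact add_right_cancel h3
    have hv₁eq : y v₁ = y' v₁ := by
      have hz : (y v₁ + v₁) + (y' v₁ + v₁) = 0 := by
        apply O.I.beta_nondeg (U.add_mem (U.add_mem (hy.keep.1 _ hv₁) hv₁) (U.add_mem (hy'.keep.1 _ hv₁) hv₁))
        intro v hv
        have key : ∀ v ∈ U, h.b v (h.act t v) = 0 → h.b ((y v₁ + v₁) + (y' v₁ + v₁)) (h.act t v) = 0 := by
          intro v hv h2
          rw [map_add, LinearMap.add_apply, hperp hy v hv h2, hperp hy' v hv h2, add_zero]
        rcases zmod_two (h.b v (h.act t v)) with h2 | h2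
        · exact key v hv h2
        · have h3 := key (v + v₁) (U.add_mem hv hv₁) (by rw [O.I.beta_add, h2, hv₁1]; decide)
          have h4 : h.b ((y v₁ + v₁) + (y' v₁ + v₁)) (h.act t v₁) = 0 := by
            rw [map_add, LinearMap.add_apply, hone hy h1, hone hy' h1']; decide
          rw [map_add (h.act t), map_add (h.b (y v₁ + v₁ + (y' v₁ + v₁))), h4, add_zero] at h3
          exact h3
      have := eq_of_add h hz
      exact add_right_cancel this
    apply hy.ext hy'
    intro v hv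
    rcases zmod_two (h.b v (h.act t v)) with h2 | h2
    · rw [hfix hy v hv h2, hfix hy' v hv h2]
    · have h3 := hfix hy (v + v₁) (U.add_mem hv hv₁) (by rw [O.I.beta_add, h2, hv₁1]; decide)
      have h4 := hfix hy' (v + v₁) (U.add_mem hv hv₁) (by rw [O.I.beta_add, h2, hv₁1]; decide)
      rw [map_add] at h3 h4
      rw [← hv₁eq, ← h3] at h4
      exact (add_right_cancel h4).symm
  · -- alternating case
    push Not at halt
    have halt' : ∀ v ∈ U, h.b v (h.act t v) = 0 := by
      intro v hv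
      rcases zmod_two (h.b v (h.act t v)) with h2 | h2
      · exact h2
      · exact absurd h2 (halt v hv)
    have hmove : ∀ {y : h.V ≃ₗ[ZMod 2] h.V}, Good S A t y → ∀ v ∈ U, y v = v ∨ y v = v + a := by
      intro y hy v hv
      rcases hDU _ (hy.move v hv (halt' v hv)) with h2 | h2
      · left; exact (eq_of_add h h2).symm
      · right; rw [← h2, ← add_assoc, h.add_self, zero_add]
    have ha0 : a ≠ 0 := by
      intro h0
      apply h1
      apply S.lag.eq_one hy.iso hy.keep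
      intro v hv
      rcases hmove hy v hv with h2 | h2
      · exact h2
      · rw [h2, h0, add_zero]
    have hfix : ∀ {y : h.V ≃ₗ[ZMod 2] h.V}, Good S A t y → ∀ v ∈ U, h.b v (h.act t a) = 0 → y v = v := by
      intro y hy v hv hva
      rcases hmove hy v hv with h2 | h2
      · exact h2
      · exfalso
        apply ha0
        apply O.I.beta_nondeg haU
        intro v' hv'
        have h3 : h.b (y v) (h.act t (y v')) = h.b v (h.act t v') := by rw [← hy.comm, hy.iso]
        rcases hmove hy v' hv' with h4 | h4 <;> rw [h2, h4] at h3 <;>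
          simp only [map_add, LinearMap.add_apply, hva, halt' a haU, add_zero] at h3 <;>
          exact add_eq_left.1 h3
    obtain ⟨v₁, hv₁, hv₁1⟩ : ∃ v₁ ∈ U, h.b v₁ (h.act t a) = 1 := by
      obtain ⟨v, hv, hv1⟩ := S.lag.exists_one (O.I.flip.1 a haU) (fun h0 => ha0 (O.I.f_inj h0))
      exact ⟨v, hv, by rw [h.b_comm]; exact hv1⟩
    have hone : ∀ {y : h.V ≃ₗ[ZMod 2] h.V}, Good S A t y → y ≠ 1 → y v₁ = v₁ + a := by
      intro y hy hy1
      rcases hmove hy v₁ hv₁ with h2 | h2
      · exfalso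
        apply hy1
        apply S.lag.eq_one hy.iso hy.keep
        intro v hv
        rcases zmod_two (h.b v (h.act t a)) with h3 | h3
        · exact hfix hy v hv h3
        · have h4 := hfix hy (v + v₁) (U.add_mem hv hv₁) (by
            rw [map_add, LinearMap.add_apply, h3, hv₁1]; decide)
          rw [map_add, h2] at h4
          exact add_right_cancel h4
      · exact h2
    apply hy.ext hy'
    intro v hv
    rcases zmod_two (h.b v (h.act t a)) with h3 | h3
    · rw [hfix hy v hv h3, hfix hy' v hv h3]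
    · have h4 := hfix hy (v + v₁) (U.add_mem hv hv₁) (by
        rw [map_add, LinearMap.add_apply, h3, hv₁1]; decide)
      have h5 := hfix hy' (v + v₁) (U.add_mem hv hv₁) (by
        rw [map_add, LinearMap.add_apply, h3, hv₁1]; decide)
      rw [map_add, hone hy h1] at h4
      rw [map_add, hone hy' h1', ← h4] at h5
      exact (add_right_cancel h5).symm

/-- good elements are trivial if `DU = ⟨a, c⟩` -/
theorem Out.good_trivial {S : Swap n h U W} (O : Out S A t) {a c : h.V} (ha : a ∈ DU S A t) (hc : c ∈ DU S A t)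
    (hac : h.b a (h.act t c) = 1) (hDU : ∀ u ∈ DU S A t, u = 0 ∨ u = a ∨ u = c ∨ u = a + c)
    {y : h.V ≃ₗ[ZMod 2] h.V} (hy : Good S A t y) : y = 1 := by
  have ha0 : a ≠ 0 := by
    intro h0
    rw [h0, map_zero, LinearMap.zero_apply] at hac
    exact absurd hac (by decide)
  have halt' : ∀ v ∈ U, h.b v (h.act t v) = 0 := by
    intro v hv
    rcases zmod_two (h.b v (h.act t v)) with h2 | h2
    · exact h2
    · exact absurd (O.DU_zero hv h2 ha) ha0
  apply S.lag.eq_one hy.iso hy.keep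
  intro v hv
  have hperp : ∀ d ∈ DU S A t, h.b (v + y v) (h.act t d) = 0 := by
    intro d hd
    have h1 : h.act t d = y (h.act t d) := by rw [hy.comm, hy.fix d hd]
    have h2 : h.b (y v) (h.act t d) = h.b v (h.act t d) := by
      conv_lhs => rw [h1]
      exact hy.iso _ _
    rw [map_add, LinearMap.add_apply, h2]
    rcases zmod_two (h.b v (h.act t d)) with h3 | h3 <;> rw [h3] <;> decide
  have haa := halt' a ha.1
  have hcc := halt' c hc.1
  have hca : h.b c (h.act t a) = 1 := by rw [O.I.beta_symm]; exact hac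
  have h1 := hperp a ha
  have h2 := hperp c hc
  rcases hDU _ (hy.move v hv (halt' v hv)) with h3 | h3 | h3 | h3
  · exact (eq_of_add h h3).symm
  · rw [h3, hac] at h2; exact absurd h2 (by decide)
  · rw [h3, hca] at h1; exact absurd h1 (by decide)
  · rw [h3, map_add, LinearMap.add_apply, hac, hcc] at h2; exact absurd h2 (by decide)

end out

end Cfsg.Agent.LargeExtra.WideIrr.FOuter
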