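import Cfsg.Agent.LargeExtra.FlipBasic

/-!
# `H = L_w(2).2` on `w ⊕ w*`, any `w ≥ 4`: transvections (helper754)

helper805's `FlipPair` (`w = 4`) with the width as a parameter.
-/

set_option autoImplicit false
set_option linter.style.haveILetI false

namespace Cfsg.Agent.LargeExtra.WideIrr.FPair

open Cfsg.Agent.Co2Type.Quad Cfsg.Agent.LargeExtra.Base Cfsg.Agent.LargeExtra.TwoCentral
open Cfsg.Agent.LargeExtra.SwapBasic (eq_of_add Keep Flip)
open Cfsg.Agent.LargeExtra.PGLKill (flip_mul flip_mul_keep keep_mul_flip keep_mul)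
open Cfsg.Agent.LargeExtra.FlipBasic
open Module

variable {G : Type*} [Group G] {Q : Subgroup G} {z : G}

/-- The situation: `H = L_n(2).2` on `n ⊕ n*`, `n ≥ 4`. -/
structure Swap (n : ℕ) (h : Large Q z) (U W : Submodule (ZMod 2) h.V) : Prop where
  lag : Lag h U W
  four_le : 4 ≤ n
  cardU : Nat.card U = 2 ^ n
  cardV : Nat.card h.V = 2 ^ (2 * n)
  pres : ∀ c, Keep h U W (h.act c) ∨ Flip h U W (h.act c)
  swap : ∃ c, Flip h U W (h.act c)
  gl : ∀ φ : U ≃ₗ[ZMod 2] U, ∃ c, ∀ u : U, h.act c u = φ u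

variable {n : ℕ} {h : Large Q z} {U W : Submodule (ZMod 2) h.V}

theorem cardV (S : Swap n h U W) : Nat.card h.V = 2 ^ (2 * n) := S.cardV

theorem pow_pos' (S : Swap n h U W) : 16 ≤ 2 ^ n :=
  calc (16 : ℕ) = 2 ^ 4 := by norm_num
    _ ≤ 2 ^ n := Nat.pow_le_pow_right (by norm_num) S.four_le

theorem exists_ne_zero (S : Swap n h U W) : ∃ u ∈ U, u ≠ 0 := by
  have h1 := S.cardU
  by_contra hcon
  push Not at hcon
  have h2 : U = ⊥ := by
    rw [eq_bot_iff]
    intro u hu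
    exact hcon u hu
  have h3 := pow_pos' S
  rw [h2, Nat.card_unique] at h1
  omega

theorem not_keep_flip (S : Swap n h U W) {f : h.V ≃ₗ[ZMod 2] h.V} (hk : Keep h U W f) (hf : Flip h U W f) :
    False := by
  obtain ⟨u, hu, hu0⟩ := exists_ne_zero S
  apply hu0
  have := S.lag.disj _ (hk.1 u hu) (hf.1 u hu)
  exact f.map_eq_zero_iff.1 this

/-- `C_G(z)` induces all transvections `T(u, w)` -/
theorem exists_T (S : Swap n h U W) {u w : h.V} (hu : u ∈ U) (hw : w ∈ W) (hb : h.b u w = 0) :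
    ∃ c, IsT h u w (h.act c) := by
  let T : U →ₗ[ZMod 2] U :=
    { toFun := fun v => v + h.b w v • ⟨u, hu⟩
      map_add' := by
        intro v v'
        rw [Submodule.coe_add, map_add, add_smul]; abel
      map_smul' := by
        intro a v
        rw [Submodule.coe_smul, map_smul, smul_eq_mul, RingHom.id_apply, smul_add, smul_smul] }
  have hT : ∀ v : U, (T v : h.V) = v + h.b w v • u := fun v => rfl
  have hTT : Function.Involutive T := by
    intro v
    apply Subtype.ext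
    rw [hT, hT, map_add, map_smul, h.b_comm w u, hb, smul_zero, add_zero, add_assoc, h.add_self, add_zero]
  obtain ⟨c', hc'⟩ := S.gl (LinearEquiv.ofInvolutive T hTT)
  obtain ⟨r, hr⟩ : ∃ r, r = h.act c' := ⟨_, rfl⟩
  have hrU : ∀ v ∈ U, r v = v + h.b w v • u := by
    intro v hv
    rw [hr]
    exact hc' ⟨v, hv⟩
  have hriso : ∀ v w, h.b (r v) (r w) = h.b v w := by rw [hr]; exact h.b_act c'
  have hrk : Keep h U W r := by
    rw [hr]
    rcases S.pres c' with h1 | h1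
    · exact h1
    · exfalso
      obtain ⟨v, hv, hv0⟩ := exists_ne_zero S
      rw [← hr] at h1
      have h2 := h1.1 v hv
      apply hv0
      have h3 : r v ∈ U := by rw [hrU v hv]; exact U.add_mem hv (U.smul_mem _ hu)
      exact r.map_eq_zero_iff.1 (S.lag.disj _ h3 h2)
  have hrrU : ∀ v ∈ U, r (r v) = v := by
    intro v hv
    have hru : r u = u := by rw [hrU u hu, h.b_comm w u, hb, zero_smul, add_zero]
    rw [hrU v hv, map_add, map_smul, hru, hrU v hv, add_assoc, h.add_self, add_zero]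
  have hrW : ∀ v ∈ W, r v = v + h.b u v • w := by
    intro v hv
    apply eq_of_add h
    apply S.lag.eq_zero_W (W.add_mem (hrk.2 v hv) (W.add_mem hv (W.smul_mem _ hw)))
    intro v' hv'
    have h2 : h.b (r v) v' = h.b v (r v') := by
      rw [← hriso v (r v'), hrrU v' hv']
    rw [map_add, LinearMap.add_apply, h2, hrU v' hv', map_add, map_add, LinearMap.add_apply, map_smul,
      map_smul, LinearMap.smul_apply, smul_eq_mul, smul_eq_mul, h.b_comm u v]
    have : ∀ a b c : ZMod 2, a + b * c + (a + c * b) = 0 := by decide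
    exact this _ _ _
  refine ⟨c', ?_⟩
  rw [← hr]
  intro v
  obtain ⟨v₁, hv₁, v₂, hv₂, rfl⟩ := S.lag.span v
  rw [map_add, hrU v₁ hv₁, hrW v₂ hv₂, map_add, map_add, S.lag.bW hw hv₂, S.lag.bU hu hv₁, add_zero, zero_add]
  abel

/-- The local situation at a vector `va = u + w`, `w = f u`. -/
structure Loc [Finite G] (S : Swap n h U W) (A : Subgroup G) (c : G) (u w : h.V) (f : h.V ≃ₗ[ZMod 2] h.V) where
  I : Inv h U W f
  hu : u ∈ U
  hu0 : u ≠ 0
  hw : w = f u
  hb : h.b u w = 0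
  p : Pair Q z A c
  hf : f ∈ p.H
  hva : p.va = u + w

section local_

variable {A : Subgroup G} {c : G} {u w : h.V} {f : h.V ≃ₗ[ZMod 2] h.V}

theorem isoX (p : Pair Q z A c) {x : h.V ≃ₗ[ZMod 2] h.V} (hx : x ∈ p.X) (v v' : h.V) :
    h.b (x v) (x v') = h.b v v' := by
  obtain ⟨c', -, rfl⟩ := p.mem_X.1 hx
  exact h.b_act c' v v'

theorem sqX (p : Pair Q z A c) {x : h.V ≃ₗ[ZMod 2] h.V} (hx : x ∈ p.X) (v : h.V) : x (x v) = v :=
  congrArg (fun t : h.V ≃ₗ[ZMod 2] h.V => t v) (p.X_sq hx)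

theorem keep_or (S : Swap n h U W) (p : Pair Q z A c) {x : h.V ≃ₗ[ZMod 2] h.V} (hx : x ∈ p.X) :
    Keep h U W x ∨ Flip h U W x := by
  obtain ⟨c', -, rfl⟩ := p.mem_X.1 hx
  exact S.pres c'

variable [Finite G]

theorem Loc.hwW {S : Swap n h U W} (L : Loc S A c u w f) : w ∈ W := L.hw ▸ L.I.flip.1 u L.hu

theorem Loc.hw0 {S : Swap n h U W} (L : Loc S A c u w f) : w ≠ 0 :=
  fun h0 => L.hu0 (L.I.f_inj (L.hw ▸ h0))

theorem Loc.hfw {S : Swap n h U W} (L : Loc S A c u w f) : f w = u := by rw [L.hw, L.I.inv]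

theorem Loc.fva {S : Swap n h U W} (L : Loc S A c u w f) : f L.p.va = L.p.va := by
  rw [L.hva, map_add, ← L.hw, L.hfw, add_comm]

/-- elements of `X` preserving `U` fix `u` and `w` -/
theorem Loc.fix {S : Swap n h U W} (L : Loc S A c u w f) {x : h.V ≃ₗ[ZMod 2] h.V} (hx : x ∈ L.p.X)
    (hk : Keep h U W x) : x u = u ∧ x w = w := by
  have h1 := L.p.X_va hx
  rw [L.hva, map_add] at h1
  exact S.lag.add_inj (hk.1 u L.hu) L.hu (hk.2 w L.hwW) L.hwW h1

/-- conjugation by `f` -/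
theorem Loc.conj_f {S : Swap n h U W} (L : Loc S A c u w f) {x : h.V ≃ₗ[ZMod 2] h.V} (hx : x ∈ L.p.X) :
    f * x * f⁻¹ ∈ L.p.X := L.p.X_normal L.hf L.fva hx

theorem Loc.keep_conj_f {S : Swap n h U W} (L : Loc S A c u w f) {x : h.V ≃ₗ[ZMod 2] h.V}
    (hk : Keep h U W x) : Keep h U W (f * x * f⁻¹) := by
  constructor
  · intro v hv
    show f (x (f⁻¹ v)) ∈ U
    rw [L.I.finv]
    exact L.I.flip.2 _ (hk.2 _ (L.I.flip.1 v hv))
  · intro v hv
    show f (x (f⁻¹ v)) ∈ W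
    rw [L.I.finv]
    exact L.I.flip.1 _ (hk.1 _ (L.I.flip.2 v hv))

/-- transvections of `H` fixing `va`: conjugation preserves `X` -/
theorem Loc.conj_T {S : Swap n h U W} (L : Loc S A c u w f) {u' w' : h.V} (hu' : u' ∈ U) (hw' : w' ∈ W)
    (hb : h.b u' w' = 0) (h1 : h.b u w' = 0) (h2 : h.b u' w = 0) {x : h.V ≃ₗ[ZMod 2] h.V} (hx : x ∈ L.p.X) :
    ∃ r : h.V ≃ₗ[ZMod 2] h.V, IsT h u' w' r ∧ (∀ v, r (r v) = v) ∧
      (∀ v w, h.b (r v) (r w) = h.b v w) ∧ r * x * r⁻¹ ∈ L.p.X := by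
  obtain ⟨cr, hcr⟩ := exists_T S hu' hw' hb
  have hrr := hcr.sq hb (S.lag.bU hu' hu') (S.lag.bW hw' hw')
  refine ⟨h.act cr, hcr, hrr, h.b_act cr, ?_⟩
  apply L.p.X_normal ⟨cr, rfl⟩ _ hx
  rw [L.hva]
  show h.act cr (u + w) = u + w
  rw [hcr, map_add, map_add, h.b_comm w' u, h1, S.lag.bW hw' L.hwW, S.lag.bU hu' L.hu, h2, add_zero,
    zero_smul, zero_smul, add_zero, add_zero]

/-- commutators: `T(u, y + x y) ∈ X` -/
theorem Loc.comm_T {S : Swap n h U W} (L : Loc S A c u w f) {x : h.V ≃ₗ[ZMod 2] h.V} (hx : x ∈ L.p.X)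
    (hk : Keep h U W x) {y : h.V} (hy : y ∈ W) (hyu : h.b u y = 0) :
    ∃ t ∈ L.p.X, IsT h u (y + x y) t := by
  obtain ⟨r, hr, hrr, -, hrX⟩ := L.conj_T L.hu hy hyu hyu (by rw [h.b_comm, h.b_comm]; exact L.hb) hx
  refine ⟨r * x * r⁻¹ * x, L.p.X.mul_mem hrX hx, ?_⟩
  intro v
  have hrinv : ∀ v, r⁻¹ v = r v := by
    intro v
    show r.symm v = r v
    rw [LinearEquiv.symm_apply_eq, hrr]
  have hxx := sqX L.p hx
  have hxi := isoX L.p hx
  obtain ⟨hxu, hxw⟩ := L.fix hx hk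
  have hs : ∀ a b, h.b a (x b) = h.b (x a) b := fun a b => by rw [← hxi a (x b), hxx]
  have hxy : x y ∈ W := hk.2 y hy
  show r (x (r⁻¹ (x v))) = _
  rw [hrinv, hr (x v)]
  simp only [map_add, map_smul, hxx, hxu, LinearMap.add_apply]
  rw [hr v, hr u, hr (x y), hs y v, hs u v, hxu, hs u y, hxu, hyu, h.b_comm y u, hyu, S.lag.bU L.hu L.hu,
    S.lag.bW hy hxy]
  simp only [zero_smul, add_zero, smul_add, add_smul]
  abel

end local_

/-- an isometry preserving `U`, `W` which is the transvection `T(u, w)` on `U` -/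
theorem isT_of_U (S : Lag h U W) {u w : h.V} (hu : u ∈ U) (hw : w ∈ W) (hb : h.b u w = 0)
    {r : h.V ≃ₗ[ZMod 2] h.V} (hriso : ∀ v w, h.b (r v) (r w) = h.b v w) (hrk : Keep h U W r)
    (hrU : ∀ v ∈ U, r v = v + h.b w v • u) : IsT h u w r := by
  have hrrU : ∀ v ∈ U, r (r v) = v := by
    intro v hv
    have hru : r u = u := by rw [hrU u hu, h.b_comm w u, hb, zero_smul, add_zero]
    rw [hrU v hv, map_add, map_smul, hru, hrU v hv, add_assoc, h.add_self, add_zero]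
  have hrW : ∀ v ∈ W, r v = v + h.b u v • w := by
    intro v hv
    apply eq_of_add h
    apply S.eq_zero_W (W.add_mem (hrk.2 v hv) (W.add_mem hv (W.smul_mem _ hw)))
    intro v' hv'
    have h2 : h.b (r v) v' = h.b v (r v') := by
      rw [← hriso v (r v'), hrrU v' hv']
    rw [map_add, LinearMap.add_apply, h2, hrU v' hv', map_add, map_add, LinearMap.add_apply, map_smul,
      map_smul, LinearMap.smul_apply, smul_eq_mul, smul_eq_mul, h.b_comm u v]
    have : ∀ a b c : ZMod 2, a + b * c + (a + c * b) = 0 := by decide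
    exact this _ _ _
  intro v
  obtain ⟨v₁, hv₁, v₂, hv₂, rfl⟩ := S.span v
  rw [map_add, hrU v₁ hv₁, hrW v₂ hv₂, map_add, map_add, S.bW hw hv₂, S.bU hu hv₁, add_zero, zero_add]
  abel

/-- conjugates of transvections -/
theorem IsT_conj {a b' : h.V} {t k : h.V ≃ₗ[ZMod 2] h.V} (ht : IsT h a b' t)
    (hk : ∀ v w, h.b (k v) (k w) = h.b v w) : IsT h (k a) (k b') (k * t * k⁻¹) := by
  intro v
  obtain ⟨v', rfl⟩ := k.surjective v
  show k (t (k⁻¹ (k v'))) = _
  have : k⁻¹ (k v') = v' := k.symm_apply_apply v'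
  rw [this, ht v', map_add, map_add, map_smul, map_smul, hk, hk]

/-- an isometry preserving `U`, `W` and fixing `U ∩ w^⊥` and `W ∩ u^⊥` is `1` or `T(u, w)` -/
theorem one_or_T (S : Lag h U W) {u w : h.V} (hu : u ∈ U) (hw : w ∈ W) (hw0 : w ≠ 0) (hb : h.b u w = 0)
    {x : h.V ≃ₗ[ZMod 2] h.V} (hxi : ∀ v w, h.b (x v) (x w) = h.b v w) (hk : Keep h U W x)
    (h1 : ∀ v ∈ U, h.b w v = 0 → x v = v) (h2 : ∀ v ∈ W, h.b u v = 0 → x v = v) :
    x = 1 ∨ IsT h u w x := by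
  obtain ⟨v₁, hv₁, hv₁1⟩ := S.exists_one hw hw0
  obtain ⟨d, hd⟩ : ∃ d, d = x v₁ + v₁ := ⟨_, rfl⟩
  have hxv₁ : x v₁ = v₁ + d := by
    rw [hd]
    calc x v₁ = (v₁ + v₁) + x v₁ := by rw [h.add_self, zero_add]
      _ = _ := by abel
  have hdU : d ∈ U := hd ▸ U.add_mem (hk.1 _ hv₁) hv₁
  have hrest : ∀ v ∈ U, x v = v + h.b w v • d := by
    intro v hv
    rcases zmod_two (h.b w v) with h3 | h3
    · rw [h3, zero_smul, add_zero]; exact h1 v hv h3
    · rw [h3, one_smul]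
      have h4 := h1 (v + v₁) (U.add_mem hv hv₁) (by rw [map_add, h3, hv₁1]; decide)
      rw [map_add, hxv₁] at h4
      calc x v = x v + (v₁ + d) + (v₁ + d) := by rw [add_assoc, h.add_self, add_zero]
        _ = v + v₁ + (v₁ + d) := by rw [h4]
        _ = v + d + (v₁ + v₁) := by abel
        _ = v + d := by rw [h.add_self, add_zero]
  have key : ∀ y, h.b u y = 0 → h.b d y = 0 := by
    intro y hy
    obtain ⟨y₁, hy₁, y₂, hy₂, rfl⟩ := S.span y
    rw [map_add, S.bU hu hy₁, zero_add] at hy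
    rw [map_add, S.bU hdU hy₁, zero_add]
    have h3 := hxi v₁ y₂
    rw [h2 y₂ hy₂ hy, hxv₁, map_add, LinearMap.add_apply] at h3
    exact add_eq_left.1 h3
  rcases eq_of_perp h key with h3 | h3
  · left
    apply S.eq_one hxi hk
    intro v hv
    rw [hrest v hv, h3, smul_zero, add_zero]
  · right
    rw [h3] at hrest
    exact isT_of_U S hu hw hb hxi hk hrest

section local2

variable [Finite G] {A : Subgroup G} {c : G} {u w : h.V} {f : h.V ≃ₗ[ZMod 2] h.V}

/-- commuting transvections in `X` -/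
theorem Loc.comm_TT {S : Swap n h U W} (L : Loc S A c u w f) {y v'' : h.V} (hv'' : v'' ∈ U)
    {t t'' : h.V ≃ₗ[ZMod 2] h.V} (ht : t ∈ L.p.X) (ht'' : t'' ∈ L.p.X) (hT : IsT h u y t)
    (hT'' : IsT h v'' w t'') : h.b y v'' = 0 := by
  obtain ⟨v, hv, hv1⟩ := S.lag.exists_one L.hwW L.hw0
  have h1 := congrArg (fun t : h.V ≃ₗ[ZMod 2] h.V => t v) (L.p.X_comm ht ht'')
  have h2 : t (t'' v) = t'' (t v) := h1
  have hbu : ∀ {a b : h.V}, a ∈ U → b ∈ U → h.b a b = 0 := fun ha hb => S.lag.bU ha hb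
  rw [hT'' v, hv1, hbu hv'' hv, one_smul, zero_smul, add_zero, hT (v + v''), hT v, map_add, map_add,
    hbu L.hu hv, hbu L.hu hv'', add_zero, zero_smul, add_zero, add_zero, hT'' (v + h.b y v • u), map_add,
    map_add, map_smul, map_smul, hv1, h.b_comm w u, L.hb, hbu hv'' hv, hbu hv'' L.hu, smul_zero, add_zero,
    add_zero, one_smul, zero_smul, add_zero, add_smul] at h2
  have h3 : h.b y v'' • u = 0 := by
    have e : v + v'' + (h.b y v • u + h.b y v'' • u) = (v + h.b y v • u + v'') + h.b y v'' • u := by abel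
    rw [e] at h2
    exact add_eq_left.1 h2
  rcases smul_eq_zero.1 h3 with h4 | h4
  · exact h4
  · exact absurd h4 L.hu0

theorem Loc.T_mem {S : Swap n h U W} (L : Loc S A c u w f) {y : h.V} (hy : y ∈ W) (hyu : h.b u y = 0)
    {t : h.V ≃ₗ[ZMod 2] h.V} (ht : t ∈ L.p.X) (hT : IsT h u y t) : y = 0 ∨ y = w := by
  by_contra hcon
  push Not at hcon
  obtain ⟨hy0, hyw⟩ := hcon
  have hv' : f y ∈ U := L.I.flip.2 y hy
  have ht' := L.conj_f ht
  have hT' : IsT h (f y) w (f * t * f⁻¹) := by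
    have := (IsT_conj hT L.I.iso).symm
    rwa [← L.hw] at this
  have h1 : h.b y (f y) = 0 := L.comm_TT hv' ht ht' hT hT'
  obtain ⟨e, he, hew, hey⟩ := S.lag.sep L.hwW hy hy0 hyw
  obtain ⟨k, hk, hku, hke, hkv⟩ := S.lag.sep3 L.hu he hv' (fun h0 => hy0 (L.I.f_inj h0))
    (fun h0 => hyw (by rw [L.hw, ← h0, L.I.inv]))
    (fun h0 => by rw [h0, hey] at h1; exact absurd h1 (by decide))
    (fun h0 => by
      rw [h0, map_add, h.b_comm y u, hyu, hey] at h1; exact absurd h1 (by decide))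
  obtain ⟨r, hr, hrr, hriso, hrX⟩ := L.conj_T he hk hke hku (by rw [h.b_comm]; exact hew) ht'
  have hri : ∀ v w, h.b (r v) (r w) = h.b v w := hriso
  have hT'' := IsT_conj hT' hri
  have hrw : r w = w := by
    rw [hr w, S.lag.bW hk L.hwW, h.b_comm e w, hew, zero_smul, zero_smul, add_zero, add_zero]
  have hrv : r (f y) = f y + e := by
    rw [hr (f y), h.b_comm k, hkv, S.lag.bU he hv', one_smul, zero_smul, add_zero]
  rw [hrw, hrv] at hT''
  have h2 := L.comm_TT (U.add_mem hv' he) ht hrX hT hT''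
  rw [map_add, h1, hey] at h2
  exact absurd h2 (by decide)

/-- elements of `X` preserving `U`: action on `W ∩ u^⊥` -/
theorem Loc.act_W {S : Swap n h U W} (L : Loc S A c u w f) {x : h.V ≃ₗ[ZMod 2] h.V} (hx : x ∈ L.p.X)
    (hk : Keep h U W x) {y : h.V} (hy : y ∈ W) (hyu : h.b u y = 0) : x y = y ∨ x y = y + w := by
  obtain ⟨t, ht, hT⟩ := L.comm_T hx hk hy hyu
  have h1 : h.b u (x y) = 0 := by
    have := isoX L.p hx u y
    rwa [(L.fix hx hk).1, hyu] at this
  rcases L.T_mem (W.add_mem hy (hk.2 y hy)) (by rw [map_add, hyu, h1, add_zero]) ht hT with h2 | h2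
  · left; exact (eq_of_add h h2).symm
  · right
    rw [← h2, ← add_assoc, h.add_self, zero_add]

theorem Loc.act_U {S : Swap n h U W} (L : Loc S A c u w f) {x : h.V ≃ₗ[ZMod 2] h.V} (hx : x ∈ L.p.X)
    (hk : Keep h U W x) {v : h.V} (hv : v ∈ U) (hvw : h.b w v = 0) : x v = v ∨ x v = v + u := by
  have h1 := L.act_W (L.conj_f hx) (L.keep_conj_f hk) (L.I.flip.1 v hv) (by
    rw [L.I.shift, ← L.hw]; exact hvw)
  have h2 : (f * x * f⁻¹) (f v) = f (x v) := by
    show f (x (f⁻¹ (f v))) = f (x v)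
    rw [L.I.finv, L.I.inv]
  rw [h2] at h1
  rcases h1 with h3 | h3
  · left; exact f.injective h3
  · right
    rw [L.hw, ← map_add] at h3
    exact f.injective h3

theorem Loc.u_mem_D {S : Swap n h U W} (L : Loc S A c u w f) (hw : w ∈ L.p.D) : u ∈ L.p.D := by
  have h1 := L.p.D.add_mem L.p.va_mem_D hw
  rw [L.hva] at h1
  have : u + w + w = u := by rw [add_assoc, h.add_self, add_zero]
  rwa [this] at h1

/-- if `X` contains an element preserving `U`, different from `1`, `T(u, w)`, then `T(u, w) ∈ X` and `u, w ∈ D` -/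
theorem Loc.tau_mem {S : Swap n h U W} (L : Loc S A c u w f) {x : h.V ≃ₗ[ZMod 2] h.V} (hx : x ∈ L.p.X)
    (hk : Keep h U W x) (hx1 : x ≠ 1) (hxT : ¬ IsT h u w x) :
    (∃ t ∈ L.p.X, IsT h u w t) ∧ w ∈ L.p.D := by
  have key : ∀ {x : h.V ≃ₗ[ZMod 2] h.V} (_ : x ∈ L.p.X) (_ : Keep h U W x) {y : h.V} (_ : y ∈ W)
      (_ : h.b u y = 0) (_ : x y = y + w), (∃ t ∈ L.p.X, IsT h u w t) ∧ w ∈ L.p.D := by
    intro x hx hk y hy hyu hxy
    have e : y + x y = w := by rw [hxy, ← add_assoc, h.add_self, zero_add]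
    constructor
    · obtain ⟨t, ht, hT⟩ := L.comm_T hx hk hy hyu
      rw [e] at hT
      exact ⟨t, ht, hT⟩
    · have h1 := L.p.X_perp hx (v := y) (by
        rw [L.hva]
        show h.b (u + w) y = 0
        rw [map_add, LinearMap.add_apply, hyu, S.lag.bW L.hwW hy, add_zero])
      have h2 : x y + y = w := by rw [add_comm]; exact e
      rw [h2] at h1
      exact h1
  by_cases h1 : ∃ y ∈ W, h.b u y = 0 ∧ x y = y + w
  · obtain ⟨y, hy, hyu, hxy⟩ := h1
    exact key hx hk hy hyu hxy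
  by_cases h2 : ∃ v ∈ U, h.b w v = 0 ∧ x v = v + u
  · obtain ⟨v, hv, hvw, hxv⟩ := h2
    refine key (L.conj_f hx) (L.keep_conj_f hk) (L.I.flip.1 v hv) (by
      rw [L.I.shift, ← L.hw]; exact hvw) ?_
    show f (x (f⁻¹ (f v))) = f v + w
    rw [L.I.finv, L.I.inv, hxv, map_add, ← L.hw]
  push Not at h1 h2
  exfalso
  rcases one_or_T S.lag L.hu L.hwW L.hw0 L.hb (isoX L.p hx) hk
    (fun v hv hvw => (L.act_U hx hk hv hvw).resolve_right (h2 v hv hvw))
    (fun v hv hvu => (L.act_W hx hk hv hvu).resolve_right (h1 v hv hvu)) with h3 | h3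
  · exact hx1 h3
  · exact hxT h3

end local2

end Cfsg.Agent.LargeExtra.WideIrr.FPair
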