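import Cfsg.Agent.LargeExtra.WideIrr.FKill
import Cfsg.Agent.LargeExtra.Tri.CaseTwo

/-!
# The Siegel case is impossible, any width `≥ 4` (helper754)

`false_of_allSg`: `G` finite without subgroup of index 2, `p : Pair Q z A a`, `dim V ≥ 8`, `H` fixes no nonzero
totally singular subspace, `|D̃| ≥ 4` ⇒ not all elements of `X` are Siegel elements.
-/

set_option autoImplicit false

namespace Cfsg.Agent.LargeExtra.WideIrr.SgKill

open Module
open Cfsg.Agent.Co2Type.Quad Cfsg.Agent.LargeExtra.Base Cfsg.Agent.LargeExtra.TwoCentral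
open Cfsg.Agent.LargeExtra.Siegel Cfsg.Agent.LargeExtra.SiegFam.Inst
open Cfsg.Agent.LargeExtra.Tri.CaseTwo (gl_of_transv card_of_finrank)

variable {G : Type*} [Group G] {Q A : Subgroup G} {z a : G}

/-- the Siegel case is impossible -/
theorem false_of_allSg [Finite G] (hG : ∀ H : Subgroup G, H.index ≠ 2) (p : Pair Q z A a)
    (h8 : 8 ≤ finrank (ZMod 2) p.lz.V) (hirr : Irr p) (hS : AllSg p) (hd : 4 ≤ Nat.card p.D) : False := by
  obtain ⟨U, U', S⟩ := siegel_case p hS h8 hirr hd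
  have hfd : Module.Finite (ZMod 2) p.lz.V := Module.Finite.of_finite
  obtain ⟨n, hU⟩ : ∃ n, n = finrank (ZMod 2) U := ⟨_, rfl⟩
  have hU' : finrank (ZMod 2) U' = n := by have := S.dim'; have := S.dim; omega
  have hfr : finrank (ZMod 2) p.lz.V = 2 * n := by have := S.dim; omega
  have hb : ∀ u ∈ U, ∀ v ∈ U, p.lz.b u v = 0 := by
    intro u hu v hv
    have h1 := p.lz.q_add' u v
    rw [S.q_U _ (U.add_mem hu hv), S.q_U _ hu, S.q_U _ hv, add_zero, zero_add] at h1
    exact h1.symm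
  have hspan : ∀ v, ∃ u ∈ U, ∃ w ∈ U', v = u + w := by
    have hdis : U ⊓ U' = ⊥ := by
      rw [eq_bot_iff]
      rintro v ⟨h1, h2⟩
      exact S.disj v h1 h2
    have h1 := Submodule.finrank_sup_add_finrank_inf_eq U U'
    rw [hdis, finrank_bot, add_zero, ← hU, hU'] at h1
    have h2 : U ⊔ U' = ⊤ := Submodule.eq_top_of_finrank_eq (by rw [h1, hfr]; omega)
    intro v
    have h3 : v ∈ U ⊔ U' := by rw [h2]; trivial
    obtain ⟨u, hu, w, hw, h⟩ := Submodule.mem_sup.1 h3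
    exact ⟨u, hu, w, hw, h.symm⟩
  refine FKill.kill hG (n := n) (h := p.lz) (U := U) (W := U') ?_
  refine ⟨⟨inferInstance, hspan, S.q_U, S.q_U', S.disj⟩, by omega, card_of_finrank hU.symm, card_of_finrank hfr,
    ?_, ?_, ?_⟩
  · intro c
    exact S.perm _ ⟨c, rfl⟩
  · obtain ⟨_, ⟨c, rfl⟩, h1⟩ := S.flip
    exact ⟨c, h1⟩
  · intro φ
    obtain ⟨_, ⟨c, rfl⟩, h1⟩ := gl_of_transv p.H U (by
      intro x hx hx0 ψ hψ
      obtain ⟨v, hv⟩ := p.lz.exists_b_eq ψ
      obtain ⟨u, hu, w, hw, rfl⟩ := hspan v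
      have hw' : ∀ y ∈ U, ψ y = p.lz.b w y := by
        intro y hy
        rw [← hv, map_add, LinearMap.add_apply, hb u hu y hy, zero_add]
      obtain ⟨h, hh, e⟩ := S.siegel x hx hx0 w hw (by
        rw [p.lz.b_comm, ← hw' x hx]; exact hψ)
      refine ⟨h, hh, fun y hy => ?_⟩
      rw [e, SiegFam.sg, hb x hx y hy, hw' y hy]
      simp) φ
    exact ⟨c, h1⟩

end Cfsg.Agent.LargeExtra.WideIrr.SgKill
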